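import Mathlib
import Cfsg.Agent.Lib.Basic.FusionConj

set_option autoImplicit false

/-!
A group in which every 2-element is central in a Sylow 2-subgroup: the top power of an element of
maximal 2-power order is central in every Sylow 2-subgroup containing it.
-/

namespace Cfsg.Agent.Lib.TwoCentral

open Subgroup

theorem conj_pow_aux {X : Type*} [Group X] (s c : X) (h : s * c = c⁻¹ * s) (n : ℕ) :
    s * c ^ n = (c ^ n)⁻¹ * s := by
  induction n with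
  | zero => simp
  | succ n ih =>
    rw [pow_succ, ← mul_assoc, ih, mul_assoc, h, ← mul_assoc, ← mul_inv_rev, ← pow_succ', pow_succ]

/-- Two involutions (or the identity) are conjugate, or commute with a common involution. -/
theorem involutions_dichotomy {X : Type*} [Group X] [Finite X] (a b : X) (ha : a * a = 1)
    (hb : b * b = 1) :
    (∃ β : X, b = β⁻¹ * a * β) ∨ (∃ v : X, v ≠ 1 ∧ v * v = 1 ∧ a * v = v * a ∧ b * v = v * b) := by
  have ha' : a⁻¹ = a := inv_eq_of_mul_eq_one_left ha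
  have hb' : b⁻¹ = b := inv_eq_of_mul_eq_one_left hb
  obtain ⟨c, hc⟩ : ∃ c, c = a * b := ⟨_, rfl⟩
  have hcinv : c⁻¹ = b * a := by rw [hc, mul_inv_rev, ha', hb']
  have h1 : a * c = c⁻¹ * a := by
    rw [hcinv, hc, ← mul_assoc, ha, one_mul, mul_assoc, ha, mul_one]
  have h2 : b * c = c⁻¹ * b := by
    rw [hcinv, hc, mul_assoc]
  have key1 := conj_pow_aux a c h1
  have key2 := conj_pow_aux b c h2
  have hm : 0 < orderOf c := orderOf_pos c
  rcases Nat.even_or_odd' (orderOf c) with ⟨k, hk | hk⟩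
  · right
    have hk0 : 0 < k := by omega
    have hkm : k < orderOf c := by omega
    have hvv : c ^ k * c ^ k = 1 := by
      rw [← pow_add, ← two_mul, ← hk, pow_orderOf_eq_one]
    have hvinv : (c ^ k)⁻¹ = c ^ k := inv_eq_of_mul_eq_one_left hvv
    refine ⟨c ^ k, pow_ne_one_of_lt_orderOf (by omega) hkm, hvv, ?_, ?_⟩
    · rw [key1, hvinv]
    · rw [key2, hvinv]
  · left
    refine ⟨c ^ (k + 1), ?_⟩
    rw [mul_assoc, key1, ← mul_assoc, ← mul_inv_rev, ← pow_add]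
    have : k + 1 + (k + 1) = orderOf c + 1 := by omega
    rw [this, pow_succ, pow_orderOf_eq_one, one_mul, ← h1, hc, ← mul_assoc, ha, one_mul]

/-- From `y ∉ D`, `y ^ 2 ^ n ∈ D`, get a `2`-power of `y` outside `D` with square in `D`. -/
theorem exists_two_pow_step {G : Type*} [Group G] (D : Subgroup G) (y : G) (hy : y ∉ D) (n : ℕ)
    (hn : y ^ 2 ^ n ∈ D) : ∃ k : ℕ, y ^ 2 ^ k ∉ D ∧ y ^ 2 ^ k * y ^ 2 ^ k ∈ D := by
  classical
  have hex : ∃ m, y ^ 2 ^ m ∈ D := ⟨n, hn⟩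
  have hfind := Nat.find_spec hex
  have hmin := fun m => Nat.find_min hex (m := m)
  have hpos : Nat.find hex ≠ 0 := by
    intro h0
    rw [h0] at hfind
    simp at hfind
    exact hy hfind
  obtain ⟨k, hk⟩ := Nat.exists_eq_succ_of_ne_zero hpos
  refine ⟨k, hmin k (by omega), ?_⟩
  rw [hk] at hfind
  rw [← pow_add, ← two_mul, ← pow_succ']
  exact hfind


variable {G : Type*} [Group G]

/-- Every `2`-element is central in a Sylow `2`-subgroup containing it. -/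
def H2 (G : Type*) [Group G] : Prop :=
  ∀ x : G, (∃ k : ℕ, x ^ 2 ^ k = 1) →
    ∃ Q : Sylow 2 G, x ∈ (Q : Subgroup G) ∧ (Q : Subgroup G) ≤ centralizer ({x} : Set G)

theorem mem_centralizer_single {x y : G} : y ∈ centralizer ({x} : Set G) ↔ y * x = x * y := by
  rw [Subgroup.mem_centralizer_singleton_iff]

theorem isPGroup_zpowers_of_pow {x : G} {k : ℕ} (hx : x ^ 2 ^ k = 1) :
    IsPGroup 2 (zpowers x) := by
  rintro ⟨g, hg⟩
  obtain ⟨n, rfl⟩ := hg
  refine ⟨k, Subtype.ext ?_⟩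
  change ((fun m : ℤ => x ^ m) n) ^ 2 ^ k = 1
  simp only
  rw [← zpow_natCast, ← zpow_mul, mul_comm, zpow_mul, zpow_natCast, hx, one_zpow]

theorem mem_normalizer_of_commute {H : Subgroup G} {g : G} (h : ∀ t ∈ H, t * g = g * t) :
    g ∈ normalizer (H : Set G) :=
  centralizer_le_normalizer _ (Subgroup.mem_centralizer_iff.mpr fun t ht => h t ht)

/-- A `2`-element commuting with a Sylow `2`-subgroup lies in it. -/
theorem mem_sylow_of_le_centralizer [Finite G] (Q : Sylow 2 G) {x : G} {k : ℕ} (hx : x ^ 2 ^ k = 1)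
    (hQ : (Q : Subgroup G) ≤ centralizer ({x} : Set G)) : x ∈ (Q : Subgroup G) := by
  have hp := isPGroup_zpowers_of_pow hx
  have h := hp.inf_normalizer_sylow Q
  have hxn : x ∈ normalizer ((Q : Subgroup G) : Set G) :=
    mem_normalizer_of_commute fun t ht => mem_centralizer_single.mp (hQ ht)
  have hxin : x ∈ zpowers x ⊓ normalizer ((Q : Subgroup G) : Set G) :=
    ⟨mem_zpowers x, hxn⟩
  have h' : zpowers x ⊓ normalizer ((Q : Subgroup G) : Set G) = zpowers x ⊓ (Q : Subgroup G) := h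
  rw [h'] at hxin
  exact hxin.2

section Adj

variable [Finite G] (τ : G) (D : Subgroup G)

/-- Adjacency: two Sylow subgroups over `D` with a bigger intersection both centralize `τ`. -/
theorem adj (hτD : τ ∈ D) (hDC : D ≤ centralizer ({τ} : Set G))
    (hmax : ∀ R : Sylow 2 G, τ ∈ (R : Subgroup G) → ¬ (R : Subgroup G) ≤ centralizer ({τ} : Set G) →
      Nat.card ↥((R : Subgroup G) ⊓ centralizer ({τ} : Set G)) ≤ Nat.card D)
    (R₁ R₂ : Sylow 2 G) (h₂ : D ≤ (R₂ : Subgroup G)) (w : G)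
    (hw₁ : w ∈ (R₁ : Subgroup G)) (hw₂ : w ∈ (R₂ : Subgroup G)) (hwD : w ∉ D)
    (hR₁ : (R₁ : Subgroup G) ≤ centralizer ({τ} : Set G)) :
    (R₂ : Subgroup G) ≤ centralizer ({τ} : Set G) := by
  by_contra h
  have hc := hmax R₂ (h₂ hτD) h
  have hle : D ≤ (R₂ : Subgroup G) ⊓ centralizer ({τ} : Set G) := le_inf h₂ hDC
  have heq := Subgroup.eq_of_le_of_card_ge hle hc
  exact hwD (heq ▸ (⟨hw₂, hR₁ hw₁⟩ : w ∈ (R₂ : Subgroup G) ⊓ centralizer ({τ} : Set G)))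

/-- In the quotient of the normalizer of a `2`-subgroup `D`, two commuting "involutions" lift into a
common Sylow subgroup containing `D`. -/
theorem exists_sylow_of_comm (hD : IsPGroup 2 D)
    (N : Subgroup G) [hN : (D.subgroupOf N).Normal] (hDN : D ≤ N) (a b : N ⧸ D.subgroupOf N)
    (ha : a * a = 1) (hb : b * b = 1) (hab : a * b = b * a) :
    ∃ R : Sylow 2 G, D ≤ (R : Subgroup G) ∧
      (∀ g : N, (QuotientGroup.mk g : N ⧸ D.subgroupOf N) = a → (g : G) ∈ (R : Subgroup G)) ∧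
      (∀ g : N, (QuotientGroup.mk g : N ⧸ D.subgroupOf N) = b → (g : G) ∈ (R : Subgroup G)) := by
  have pa : IsPGroup 2 (zpowers a) :=
    isPGroup_zpowers_of_pow (k := 1) (by rw [pow_one, pow_two, ha])
  have pb : IsPGroup 2 (zpowers b) :=
    isPGroup_zpowers_of_pow (k := 1) (by rw [pow_one, pow_two, hb])
  have hnorm : zpowers a ≤ normalizer ((zpowers b : Subgroup (N ⧸ D.subgroupOf N)) : Set _) := by
    rw [Subgroup.zpowers_le]
    refine mem_normalizer_of_commute fun t ht => ?_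
    obtain ⟨n, rfl⟩ := ht
    have : Commute a b := hab
    exact (this.zpow_right n).symm.eq
  have pK := pa.to_sup_of_normal_right' pb hnorm
  let π := QuotientGroup.mk' (D.subgroupOf N)
  have pKc : IsPGroup 2 ((zpowers a ⊔ zpowers b).comap π) := by
    apply pK.comap_of_ker_isPGroup
    have h : π.ker = D.subgroupOf N := QuotientGroup.ker_mk' _
    rw [h]
    exact hD.comap_subtype
  obtain ⟨R, hR⟩ := (pKc.map N.subtype).exists_le_sylow
  refine ⟨R, ?_, ?_, ?_⟩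
  · intro d hd
    apply hR
    refine ⟨⟨d, hDN hd⟩, ?_, rfl⟩
    have h1 : π ⟨d, hDN hd⟩ = 1 := by
      change (QuotientGroup.mk ⟨d, hDN hd⟩ : N ⧸ D.subgroupOf N) = 1
      rw [QuotientGroup.eq_one_iff]
      exact hd
    change π ⟨d, hDN hd⟩ ∈ zpowers a ⊔ zpowers b
    rw [h1]
    exact one_mem _
  · intro g hg
    apply hR
    refine ⟨g, ?_, rfl⟩
    change π g ∈ zpowers a ⊔ zpowers b
    have : π g = a := hg
    rw [this]
    exact (le_sup_left : zpowers a ≤ zpowers a ⊔ zpowers b) (mem_zpowers a)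
  · intro g hg
    apply hR
    refine ⟨g, ?_, rfl⟩
    change π g ∈ zpowers a ⊔ zpowers b
    have : π g = b := hg
    rw [this]
    exact (le_sup_right : zpowers b ≤ zpowers a ⊔ zpowers b) (mem_zpowers b)

end Adj


section Main

variable [Finite G]

/-- Step 3: a pure `2`-group computation. -/
theorem commute_of_exponent (D : Subgroup G) (e : ℕ) (x y : G) (hxD : x ∈ D)
    (hxc : ∀ d ∈ D, d * x = x * d) (hy : y ∈ normalizer (D : Set G)) (hyy : y * y ∈ D)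
    (he1 : y ^ 2 ^ (e + 1) = 1) (he2 : (y * x) ^ 2 ^ (e + 1) = 1) (he3 : x ^ 2 ^ (e + 1) = 1) :
    y * x ^ 2 ^ e = x ^ 2 ^ e * y := by
  set s := y * y with hs
  set u := y⁻¹ * x * y with hu
  have huD : u ∈ D := by
    have := (Subgroup.mem_normalizer_iff.mp (inv_mem hy) x).mp hxD
    simpa [hu] using this
  have huc : ∀ d ∈ D, d * u = u * d := by
    intro d hd
    have hd' : y * d * y⁻¹ ∈ D := (Subgroup.mem_normalizer_iff.mp hy d).mp hd
    have h1 := hxc _ hd'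
    have : y⁻¹ * ((y * d * y⁻¹) * x) * y = y⁻¹ * (x * (y * d * y⁻¹)) * y := by rw [h1]
    simpa [hu, mul_assoc] using this
  have h_sq : (y * x) * (y * x) = s * (u * x) := by
    simp only [hs, hu]; group
  have c1 : Commute s u := huc s hyy
  have c2 : Commute s x := hxc s hyy
  have c3 : Commute u x := hxc u huD
  have hpow : (y * x) ^ 2 ^ (e + 1) = s ^ 2 ^ e * (u ^ 2 ^ e * x ^ 2 ^ e) := by
    rw [pow_succ' 2 e, pow_mul, pow_two, h_sq, (c1.mul_right c2).mul_pow, c3.mul_pow]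
  have hs_pow : s ^ 2 ^ e = 1 := by
    rw [hs, ← pow_two, ← pow_mul, ← pow_succ']
    exact he1
  rw [he2, hs_pow, one_mul] at hpow
  have hτ : x ^ 2 ^ e * x ^ 2 ^ e = 1 := by
    rw [← pow_add, ← two_mul, ← pow_succ']
    exact he3
  have hu_pow : u ^ 2 ^ e = y⁻¹ * x ^ 2 ^ e * y := by
    simp only [hu]
    rw [show y⁻¹ * x * y = y⁻¹ * x * y⁻¹⁻¹ by simp, conj_pow]
    simp
  rw [hu_pow] at hpow
  have h5 : y⁻¹ * x ^ 2 ^ e * y = x ^ 2 ^ e := by
    have h6 : (y⁻¹ * x ^ 2 ^ e * y) * x ^ 2 ^ e = 1 := hpow.symm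
    exact eq_of_mul_inv_eq_one (by rw [inv_eq_of_mul_eq_one_left hτ]; exact h6)
  have h7 : y * (y⁻¹ * x ^ 2 ^ e * y) = y * x ^ 2 ^ e := by rw [h5]
  rw [← h7]
  group

theorem two_elt_of_mem (R : Sylow 2 G) {g : G} (hg : g ∈ (R : Subgroup G)) : ∃ k : ℕ, g ^ 2 ^ k = 1 := by
  obtain ⟨k, hk⟩ := R.isPGroup' ⟨g, hg⟩
  exact ⟨k, by simpa [Subtype.ext_iff] using hk⟩

theorem mem_smul_sylow (Q : Sylow 2 G) (c t : G) :
    t ∈ ((c • Q : Sylow 2 G) : Subgroup G) ↔ c⁻¹ * t * c ∈ (Q : Subgroup G) := by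
  rw [Sylow.coe_subgroup_smul, Subgroup.mem_pointwise_smul_iff_inv_smul_mem]
  simp [MulAut.smul_def, MulAut.conj_apply]

/-- A `2`-subgroup of `C` lies in a `C`-conjugate of a Sylow subgroup contained in `C`. -/
theorem exists_conj_le (C D : Subgroup G) (hDC : D ≤ C) (pD : IsPGroup 2 D) (Q : Sylow 2 G)
    (hQ : (Q : Subgroup G) ≤ C) : ∃ c ∈ C, D ≤ ((c • Q : Sylow 2 G) : Subgroup G) := by
  obtain ⟨c, hc, Q', hDQ', hQQ'⟩ :=
    Cfsg.Agent.Lib.Basic.FusionConj.exists_conj_common_sylow (p := 2) C D Q hDC hQ pD Q.isPGroup'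
  refine ⟨c, hc, ?_⟩
  have hle : ((c • Q : Sylow 2 G) : Subgroup G) ≤ Q' := by
    intro t ht
    rw [mem_smul_sylow] at ht
    apply hQQ'
    exact ⟨_, ht, by simp [MulAut.conj_apply, mul_assoc]⟩
  have heq := (c • Q : Sylow 2 G).is_maximal' Q'.isPGroup' hle
  rw [← heq]
  exact hDQ'

theorem exists_normalizing_of_lt (A D : Subgroup G) (pA : IsPGroup 2 A) (hD : D ≤ A) (a : G)
    (haA : a ∈ A) (haD : a ∉ D) : ∃ y ∈ A, y ∉ D ∧ y ∈ normalizer (D : Set G) := by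
  have : Group.IsNilpotent A := pA.isNilpotent
  have hnc := Group.normalizerCondition_of_isNilpotent (G := A)
  have hlt : D.subgroupOf A < ⊤ := by
    refine lt_of_le_of_ne le_top fun h => haD ?_
    have : (⟨a, haA⟩ : A) ∈ D.subgroupOf A := by rw [h]; trivial
    exact this
  obtain ⟨y, hy, hyD⟩ := SetLike.exists_of_lt (hnc _ hlt)
  refine ⟨y, y.2, hyD, ?_⟩
  rw [Subgroup.mem_normalizer_iff]
  intro h
  constructor
  · intro hh
    have hhA := hD hh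
    have := (Subgroup.mem_normalizer_iff.mp hy ⟨h, hhA⟩).mp hh
    exact this
  · intro hh
    have h1 : (y : G) * h * (y : G)⁻¹ ∈ A := hD hh
    have hhA : h ∈ A := by
      have := A.mul_mem (A.mul_mem (inv_mem y.2) h1) y.2
      simpa [mul_assoc] using this
    have := (Subgroup.mem_normalizer_iff.mp hy ⟨h, hhA⟩).mpr hh
    exact this

theorem conj_central (D : Subgroup G) {x β : G} (hβ : β ∈ normalizer (D : Set G))
    (hxc : ∀ d ∈ D, d * x = x * d) : ∀ d ∈ D, d * (β⁻¹ * x * β) = (β⁻¹ * x * β) * d := by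
  intro d hd
  have hd' : β * d * β⁻¹ ∈ D := (Subgroup.mem_normalizer_iff.mp hβ d).mp hd
  have h1 := hxc _ hd'
  have : β⁻¹ * ((β * d * β⁻¹) * x) * β = β⁻¹ * (x * (β * d * β⁻¹)) * β := by rw [h1]
  simpa [mul_assoc] using this

/-- **Main local lemma.** -/
theorem top_power_central (hH : H2 G) (e : ℕ) (hexp : ∀ g : G, (∃ k : ℕ, g ^ 2 ^ k = 1) → g ^ 2 ^ (e + 1) = 1)
    (x : G) (hx : x ^ 2 ^ (e + 1) = 1) (A : Sylow 2 G) (hA : x ^ 2 ^ e ∈ (A : Subgroup G)) :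
    (A : Subgroup G) ≤ centralizer ({x ^ 2 ^ e} : Set G) := by
  classical
  by_contra hne
  obtain ⟨τ, hτ⟩ : ∃ τ, τ = x ^ 2 ^ e := ⟨_, rfl⟩
  rw [← hτ] at hA hne
  -- maximal choice
  let C : Subgroup G := centralizer ({τ} : Set G)
  let 𝒜 : Set (Sylow 2 G) := {R | τ ∈ (R : Subgroup G) ∧ ¬ (R : Subgroup G) ≤ C}
  obtain ⟨A₀, hA₀, hmax₀⟩ := Set.exists_max_image 𝒜 (fun R => Nat.card ↥((R : Subgroup G) ⊓ C))
    (Set.toFinite _) ⟨A, hA, hne⟩
  obtain ⟨hτA₀, hnA₀⟩ := hA₀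
  obtain ⟨D, hDdef⟩ : ∃ D, D = (A₀ : Subgroup G) ⊓ C := ⟨_, rfl⟩
  have hDA : D ≤ (A₀ : Subgroup G) := hDdef ▸ inf_le_left
  have hDC : D ≤ C := hDdef ▸ inf_le_right
  have hτC : τ ∈ C := mem_centralizer_single.mpr rfl
  have hτD : τ ∈ D := hDdef ▸ ⟨hτA₀, hτC⟩
  have pD : IsPGroup 2 D := A₀.isPGroup'.to_le hDA
  have mem_D : ∀ g, g ∈ (A₀ : Subgroup G) → g * τ = τ * g → g ∈ D := fun g h1 h2 =>
    hDdef ▸ ⟨h1, mem_centralizer_single.mpr h2⟩
  have hmax : ∀ R : Sylow 2 G, τ ∈ (R : Subgroup G) → ¬ (R : Subgroup G) ≤ centralizer ({τ} : Set G) →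
      Nat.card ↥((R : Subgroup G) ⊓ centralizer ({τ} : Set G)) ≤ Nat.card D := by
    intro R h1 h2
    have := hmax₀ R ⟨h1, h2⟩
    rw [hDdef]
    exact this
  -- the Sylow subgroup `T`
  obtain ⟨Q, hxQ, hQC⟩ := hH x ⟨_, hx⟩
  have hQC' : (Q : Subgroup G) ≤ C := by
    intro t ht
    have h1 : t * x = x * t := mem_centralizer_single.mp (hQC ht)
    have h2 : Commute t x := h1
    exact mem_centralizer_single.mpr (hτ ▸ (h2.pow_right (2 ^ e)).eq)
  obtain ⟨c, hcC, hDT⟩ := exists_conj_le C D hDC pD Q hQC'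
  obtain ⟨T, hTdef⟩ : ∃ T, T = (c • Q : Sylow 2 G) := ⟨_, rfl⟩
  rw [← hTdef] at hDT
  obtain ⟨x', hx'def⟩ : ∃ x', x' = c * x * c⁻¹ := ⟨_, rfl⟩
  have hx'T : x' ∈ (T : Subgroup G) := by
    rw [hTdef, mem_smul_sylow, hx'def]
    simpa [mul_assoc] using hxQ
  have hTc : ∀ t ∈ (T : Subgroup G), t * x' = x' * t := by
    intro t ht
    rw [hTdef, mem_smul_sylow] at ht
    have h1 : (c⁻¹ * t * c) * x = x * (c⁻¹ * t * c) := mem_centralizer_single.mp (hQC ht)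
    have h2 : c * ((c⁻¹ * t * c) * x) * c⁻¹ = c * (x * (c⁻¹ * t * c)) * c⁻¹ := by rw [h1]
    rw [hx'def]
    simpa [mul_assoc] using h2
  have hx'pow : ∀ n : ℕ, x' ^ n = c * x ^ n * c⁻¹ := by
    intro n
    rw [hx'def, conj_pow]
  have hx'τ : x' ^ 2 ^ e = τ := by
    rw [hx'pow, ← hτ]
    have : c * τ = τ * c := mem_centralizer_single.mp hcC
    rw [this]
    simp
  have hx'e : x' ^ 2 ^ (e + 1) = 1 := by
    rw [hx'pow, hx]; simp
  have hTC : (T : Subgroup G) ≤ C := by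
    intro t ht
    have h2 : Commute t x' := hTc t ht
    exact mem_centralizer_single.mpr (hx'τ ▸ (h2.pow_right (2 ^ e)).eq)
  -- `y₁`
  obtain ⟨a, haA, haC⟩ : ∃ a ∈ (A₀ : Subgroup G), a ∉ C := by
    by_contra h
    push Not at h
    exact hnA₀ h
  have haD : a ∉ D := fun h => haC (hDC h)
  obtain ⟨y₀, hy₀A, hy₀D, hy₀N⟩ := exists_normalizing_of_lt _ D A₀.isPGroup' hDA a haA haD
  obtain ⟨n₀, hn₀⟩ := two_elt_of_mem A₀ hy₀A
  obtain ⟨k₀, hk₀, hk₀'⟩ := exists_two_pow_step D y₀ hy₀D n₀ (hn₀ ▸ one_mem D)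
  obtain ⟨y₁, hy₁⟩ : ∃ y₁, y₁ = y₀ ^ 2 ^ k₀ := ⟨_, rfl⟩
  rw [← hy₁] at hk₀ hk₀'
  have hy₁A : y₁ ∈ (A₀ : Subgroup G) := hy₁ ▸ pow_mem hy₀A _
  have hy₁N : y₁ ∈ normalizer (D : Set G) := hy₁ ▸ pow_mem hy₀N _
  have hy₁τ : ¬ y₁ * τ = τ * y₁ := fun h => hk₀ (mem_D y₁ hy₁A h)
  -- Step 2
  have hx'D : x' ∈ D := by
    by_contra hx'D
    obtain ⟨k, hk, hk'⟩ := exists_two_pow_step D x' hx'D (e + 1) (hx'e ▸ one_mem D)
    obtain ⟨y, hy⟩ : ∃ y, y = x' ^ 2 ^ k := ⟨_, rfl⟩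
    rw [← hy] at hk hk'
    have hyT : y ∈ (T : Subgroup G) := hy ▸ pow_mem hx'T _
    have hyc : ∀ t ∈ (T : Subgroup G), t * y = y * t := by
      intro t ht
      have h2 : Commute t x' := hTc t ht
      rw [hy]
      exact (h2.pow_right _).eq
    have hyN : y ∈ normalizer (D : Set G) := mem_normalizer_of_commute fun t ht => hyc t (hDT ht)
    let N : Subgroup G := normalizer (D : Set G)
    have hDN : D ≤ N := le_normalizer
    let a' : N ⧸ D.subgroupOf N := QuotientGroup.mk ⟨y₁, hy₁N⟩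
    let b' : N ⧸ D.subgroupOf N := QuotientGroup.mk ⟨y, hyN⟩
    have ha' : a' * a' = 1 := by
      change (QuotientGroup.mk (⟨y₁, hy₁N⟩ * ⟨y₁, hy₁N⟩) : N ⧸ D.subgroupOf N) = 1
      rw [QuotientGroup.eq_one_iff]
      exact hk₀'
    have hb' : b' * b' = 1 := by
      change (QuotientGroup.mk (⟨y, hyN⟩ * ⟨y, hyN⟩) : N ⧸ D.subgroupOf N) = 1
      rw [QuotientGroup.eq_one_iff]
      exact hk'
    rcases involutions_dichotomy a' b' ha' hb' with ⟨β, hβ⟩ | ⟨v, hv1, hv2, hv3, hv4⟩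
    · -- conjugate case
      obtain ⟨β₀, rfl⟩ := QuotientGroup.mk_surjective β
      have hβ' : (QuotientGroup.mk ⟨y, hyN⟩ : N ⧸ D.subgroupOf N) =
          QuotientGroup.mk (β₀⁻¹ * ⟨y₁, hy₁N⟩ * β₀) := hβ
      rw [QuotientGroup.eq] at hβ'
      have hd : y⁻¹ * ((β₀ : G)⁻¹ * y₁ * (β₀ : G)) ∈ D := hβ'
      obtain ⟨d, hdd⟩ : ∃ d, d = y⁻¹ * ((β₀ : G)⁻¹ * y₁ * (β₀ : G)) := ⟨_, rfl⟩
      rw [← hdd] at hd
      have hτc : ∀ d ∈ D, d * τ = τ * d := fun d hd => mem_centralizer_single.mp (hDC hd)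
      have hcen := conj_central D β₀.2 hτc
      obtain ⟨τ', hτ'⟩ : ∃ τ', τ' = (β₀ : G)⁻¹ * τ * (β₀ : G) := ⟨_, rfl⟩
      rw [← hτ'] at hcen
      have hτ'D : τ' ∈ D := by
        have := (Subgroup.mem_normalizer_iff.mp (inv_mem β₀.2) τ).mp hτD
        rw [hτ']
        simpa using this
      have h1 : (y * d) * τ' = τ' * (y * d) := by
        rw [mul_assoc, hcen d hd, ← mul_assoc, (hyc τ' (hDT hτ'D)).symm, mul_assoc]
      apply hy₁τ
      have e1 : y₁ = (β₀ : G) * (y * d) * (β₀ : G)⁻¹ := by rw [hdd]; group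
      have e2 : τ = (β₀ : G) * τ' * (β₀ : G)⁻¹ := by rw [hτ']; group
      calc y₁ * τ = (β₀ : G) * ((y * d) * τ') * (β₀ : G)⁻¹ := by rw [e1]; nth_rw 1 [e2]; group
        _ = (β₀ : G) * (τ' * (y * d)) * (β₀ : G)⁻¹ := by rw [h1]
        _ = τ * y₁ := by rw [e1]; nth_rw 1 [e2]; group
    · -- commuting case
      obtain ⟨v₀, rfl⟩ := QuotientGroup.mk_surjective v
      have hv₀D : (v₀ : G) ∉ D := by
        intro h
        apply hv1
        rw [QuotientGroup.eq_one_iff]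
        exact h
      obtain ⟨R₁, hR₁D, hR₁y, hR₁v⟩ := exists_sylow_of_comm D pD N hDN a' _ ha' hv2 hv3
      obtain ⟨R₂, hR₂D, hR₂y, hR₂v⟩ := exists_sylow_of_comm D pD N hDN b' _ hb' hv2 hv4
      have hT₂ := adj τ D hτD hDC hmax T R₂ hR₂D y hyT (hR₂y ⟨y, hyN⟩ rfl) hk hTC
      have hT₁ := adj τ D hτD hDC hmax R₂ R₁ hR₁D v₀ (hR₂v v₀ rfl) (hR₁v v₀ rfl) hv₀D hT₂
      have hT₀ := adj τ D hτD hDC hmax R₁ A₀ hDA y₁ (hR₁y ⟨y₁, hy₁N⟩ rfl) hy₁A hk₀ hT₁
      exact hnA₀ hT₀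
  -- Step 3
  have hxc : ∀ d ∈ D, d * x' = x' * d := fun d hd => hTc d (hDT hd)
  have he1 : y₁ ^ 2 ^ (e + 1) = 1 := hexp y₁ (two_elt_of_mem A₀ hy₁A)
  have he2 : (y₁ * x') ^ 2 ^ (e + 1) = 1 :=
    hexp _ (two_elt_of_mem A₀ (mul_mem hy₁A (hDA hx'D)))
  have := commute_of_exponent D e x' y₁ hx'D hxc hy₁N hk₀' he1 he2 hx'e
  rw [hx'τ] at this
  exact hy₁τ this

end Main

end Cfsg.Agent.Lib.TwoCentral
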