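import Cfsg.Agent.Lib.TwoCentral.Local

set_option autoImplicit false

/-!
If every `2`-element of a finite group is central in a Sylow `2`-subgroup, then the Sylow
`2`-subgroups are abelian.
-/

namespace Cfsg.Agent.Lib.TwoCentral

open Subgroup

universe u

variable {G : Type u} [Group G] [Finite G]

/-- Two Sylow subgroups inside `L` are conjugate in `L`. -/
theorem exists_conj_in (L : Subgroup G) (P₁ P₂ : Sylow 2 G) (h₁ : (P₁ : Subgroup G) ≤ L)
    (h₂ : (P₂ : Subgroup G) ≤ L) : ∃ c ∈ L, (c • P₂ : Sylow 2 G) = P₁ := by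
  obtain ⟨c, hc, hle⟩ := exists_conj_le L P₁ h₁ P₁.isPGroup' P₂ h₂
  refine ⟨c, hc, ?_⟩
  have := P₁.is_maximal' (c • P₂ : Sylow 2 G).isPGroup' hle
  exact Sylow.ext this

theorem h2_centralizer (hH : H2 G) (τ : G)
    (hτ : ∀ A : Sylow 2 G, τ ∈ (A : Subgroup G) → (A : Subgroup G) ≤ centralizer ({τ} : Set G))
    {m : ℕ} (hτ2 : τ ^ 2 ^ m = 1) : H2 ↥(centralizer ({τ} : Set G)) := by
  rintro y ⟨k, hk⟩
  have hk' : (y : G) ^ 2 ^ k = 1 := by
    have := congrArg (Subtype.val) hk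
    simpa using this
  obtain ⟨Q, hyQ, hQC⟩ := hH y ⟨k, hk'⟩
  have hτy : τ ∈ centralizer ({(y : G)} : Set G) := by
    rw [mem_centralizer_single]
    exact (mem_centralizer_single.mp y.2).symm
  obtain ⟨c, hc, hle⟩ := exists_conj_le (centralizer ({(y : G)} : Set G)) (zpowers τ)
    ((Subgroup.zpowers_le).mpr hτy) (isPGroup_zpowers_of_pow hτ2) Q hQC
  have hcy : c * (y : G) = y * c := mem_centralizer_single.mp hc
  obtain ⟨R, hR⟩ : ∃ R, R = (c • Q : Sylow 2 G) := ⟨_, rfl⟩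
  rw [← hR] at hle
  have hτR : τ ∈ (R : Subgroup G) := hle (mem_zpowers τ)
  have hRC := hτ R hτR
  have hyR : (y : G) ∈ (R : Subgroup G) := by
    rw [hR, mem_smul_sylow]
    have : c⁻¹ * (y : G) * c = y := by rw [mul_assoc, ← hcy]; group
    rw [this]
    exact hyQ
  have hRy : ∀ t ∈ (R : Subgroup G), t * (y : G) = y * t := by
    intro t ht
    rw [hR, mem_smul_sylow] at ht
    have h1 : (c⁻¹ * t * c) * (y : G) = y * (c⁻¹ * t * c) := mem_centralizer_single.mp (hQC ht)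
    have h2 : c * ((c⁻¹ * t * c) * (y : G)) * c⁻¹ = c * ((y : G) * (c⁻¹ * t * c)) * c⁻¹ := by rw [h1]
    have h3 : c * (y : G) * c⁻¹ = y := by rw [hcy]; group
    have h4 : t * (c * (y : G) * c⁻¹) = (c * (y : G) * c⁻¹) * t := by
      simpa [mul_assoc] using h2
    rwa [h3] at h4
  refine ⟨R.subtype hRC, ?_, ?_⟩
  · rw [Sylow.coe_subtype]
    exact hyR
  · intro z hz
    rw [Sylow.coe_subtype] at hz
    rw [mem_centralizer_single]
    exact Subtype.ext (hRy z hz)

theorem h2_quotient (hH : H2 G) (τ : G) (hτ : τ * τ = 1) [hN : (zpowers τ).Normal] :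
    H2 (G ⧸ zpowers τ) := by
  intro u ⟨k, hk⟩
  obtain ⟨g, rfl⟩ := QuotientGroup.mk_surjective u
  have h1 : g ^ 2 ^ k ∈ zpowers τ := by
    rw [← QuotientGroup.eq_one_iff]
    simpa using hk
  have hsq : ∀ z ∈ zpowers τ, z * z = 1 := by
    rintro _ ⟨n, rfl⟩
    simp only
    rw [← (Commute.refl τ).mul_zpow, hτ, one_zpow]
  have h2 : g ^ 2 ^ (k + 1) = 1 := by
    rw [pow_succ, pow_mul, pow_two]
    exact hsq _ h1
  obtain ⟨Q, hgQ, hQC⟩ := hH g ⟨_, h2⟩
  refine ⟨Q.mapSurjective (QuotientGroup.mk'_surjective (zpowers τ)), ?_, ?_⟩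
  · rw [Sylow.coe_mapSurjective]
    exact ⟨g, hgQ, rfl⟩
  · rw [Sylow.coe_mapSurjective]
    rintro _ ⟨t, ht, rfl⟩
    rw [mem_centralizer_single]
    have h3 : t * g = g * t := mem_centralizer_single.mp (hQC ht)
    change (QuotientGroup.mk t * QuotientGroup.mk g : G ⧸ zpowers τ) =
      QuotientGroup.mk g * QuotientGroup.mk t
    rw [← QuotientGroup.mk_mul, ← QuotientGroup.mk_mul, h3]

/-- The central case: `S / ⟨τ⟩` abelian with `τ` central forces `S` abelian. -/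
theorem comm_of_quotient_comm (hH : H2 G) (τ : G) (hτc : ∀ g : G, g * τ = τ * g)
    [hN : (zpowers τ).Normal] (P : Sylow 2 G)
    (hQ : ∀ a ∈ (P : Subgroup G), ∀ b ∈ (P : Subgroup G),
      (QuotientGroup.mk a * QuotientGroup.mk b : G ⧸ zpowers τ) =
        QuotientGroup.mk b * QuotientGroup.mk a)
    (s t : G) (hs : s ∈ (P : Subgroup G)) (ht : t ∈ (P : Subgroup G)) : s * t = t * s := by
  obtain ⟨k, hk⟩ := two_elt_of_mem P hs
  obtain ⟨Q₁, hsQ₁, hQ₁C⟩ := hH s ⟨k, hk⟩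
  obtain ⟨g, hg⟩ := MulAction.exists_smul_eq G Q₁ P
  obtain ⟨u, hu⟩ : ∃ u, u = g * s * g⁻¹ := ⟨_, rfl⟩
  have huP : u ∈ (P : Subgroup G) := by
    rw [← hg, mem_smul_sylow, hu]
    simpa [mul_assoc] using hsQ₁
  have hPu : ∀ z ∈ (P : Subgroup G), z * u = u * z := by
    intro z hz
    rw [← hg, mem_smul_sylow] at hz
    have h1 : (g⁻¹ * z * g) * s = s * (g⁻¹ * z * g) := mem_centralizer_single.mp (hQ₁C hz)
    have h2 : g * ((g⁻¹ * z * g) * s) * g⁻¹ = g * (s * (g⁻¹ * z * g)) * g⁻¹ := by rw [h1]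
    rw [hu]
    simpa [mul_assoc] using h2
  let ū : G ⧸ zpowers τ := QuotientGroup.mk u
  let L : Subgroup G := (centralizer ({ū} : Set (G ⧸ zpowers τ))).comap (QuotientGroup.mk' (zpowers τ))
  have memL : ∀ h : G, h ∈ L ↔ (QuotientGroup.mk h * ū : G ⧸ zpowers τ) = ū * QuotientGroup.mk h := by
    intro h
    change (QuotientGroup.mk h : G ⧸ zpowers τ) ∈ centralizer ({ū} : Set (G ⧸ zpowers τ)) ↔ _
    rw [mem_centralizer_single]
  have hPL : (P : Subgroup G) ≤ L := by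
    intro z hz
    rw [memL]
    exact hQ z hz u huP
  have hP₂L : ((g • P : Sylow 2 G) : Subgroup G) ≤ L := by
    intro z hz
    rw [mem_smul_sylow] at hz
    rw [memL]
    have h1 := hQ _ hz s hs
    have hū : ū = QuotientGroup.mk g * QuotientGroup.mk s * (QuotientGroup.mk g)⁻¹ := by
      simp only [ū, hu]
      rfl
    have hz' : (QuotientGroup.mk (g⁻¹ * z * g) : G ⧸ zpowers τ) =
        (QuotientGroup.mk g)⁻¹ * QuotientGroup.mk z * QuotientGroup.mk g := rfl
    rw [hz'] at h1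
    rw [hū]
    have h2 := congrArg (fun w => (QuotientGroup.mk g : G ⧸ zpowers τ) * w * (QuotientGroup.mk g)⁻¹) h1
    simpa [mul_assoc] using h2
  obtain ⟨h, hhL, hhP⟩ := exists_conj_in L P (g • P) hPL hP₂L
  -- `n = h * g` normalizes `P`
  have hnP : ∀ z ∈ (P : Subgroup G), (h * g) * z * (h * g)⁻¹ ∈ (P : Subgroup G) := by
    intro z hz
    rw [← hhP, mem_smul_sylow, mem_smul_sylow]
    simpa [mul_assoc] using hz
  have hq : u⁻¹ * (h * u * h⁻¹) ∈ zpowers τ := by
    rw [← QuotientGroup.eq]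
    rw [memL] at hhL
    have h1 : (QuotientGroup.mk (h * u * h⁻¹) : G ⧸ zpowers τ) =
        QuotientGroup.mk h * ū * (QuotientGroup.mk h)⁻¹ := rfl
    rw [h1, hhL]
    simp [ū]
  obtain ⟨q, hqq⟩ : ∃ q, q = u⁻¹ * (h * u * h⁻¹) := ⟨_, rfl⟩
  rw [← hqq] at hq
  have hqc : ∀ z : G, z * q = q * z := by
    obtain ⟨n, rfl⟩ := hq
    intro z
    have : Commute z τ := hτc z
    exact (this.zpow_right n).eq
  have hns : (h * g) * s * (h * g)⁻¹ = u * q := by
    rw [hqq, hu]; group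
  have ht₁ := hnP t ht
  have hfinal : (u * q) * ((h * g) * t * (h * g)⁻¹) = ((h * g) * t * (h * g)⁻¹) * (u * q) := by
    rw [mul_assoc, (hqc _).symm, ← mul_assoc, (hPu _ ht₁).symm, mul_assoc]
  rw [← hns] at hfinal
  have h5 : (h * g) * (s * t) * (h * g)⁻¹ = (h * g) * (t * s) * (h * g)⁻¹ := by
    simpa [mul_assoc] using hfinal
  simpa using h5

theorem abelian_of_H2_aux : ∀ (n : ℕ) (G : Type u) [Group G] [Finite G], Nat.card G = n → H2 G →
    ∀ P : Sylow 2 G, ∀ a ∈ (P : Subgroup G), ∀ b ∈ (P : Subgroup G), a * b = b * a := by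
  classical
  intro n
  induction n using Nat.strong_induction_on with
  | _ n ih =>
  intro G _ _ hn hH P
  have hex : ∃ E, ∀ g : G, (∃ k : ℕ, g ^ 2 ^ k = 1) → g ^ 2 ^ E = 1 := by
    refine ⟨Nat.card G, ?_⟩
    rintro g ⟨k, hk⟩
    have h1 : orderOf g ∣ 2 ^ k := orderOf_dvd_of_pow_eq_one hk
    obtain ⟨j, -, hj⟩ := (Nat.dvd_prime_pow Nat.prime_two).mp h1
    have h2 : 2 ^ j ∣ Nat.card G := hj ▸ orderOf_dvd_natCard g
    have h3 : 2 ^ j ≤ Nat.card G := Nat.le_of_dvd Nat.card_pos h2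
    have h4 : j < 2 ^ j := Nat.lt_two_pow_self
    have h5 : j ≤ Nat.card G := by omega
    have h6 : g ^ 2 ^ j = 1 := by rw [← hj]; exact pow_orderOf_eq_one g
    rw [show Nat.card G = j + (Nat.card G - j) by omega, pow_add, pow_mul, h6, one_pow]
  have hspec := Nat.find_spec hex
  have hmin := fun m => Nat.find_min hex (m := m)
  rcases hfind : Nat.find hex with _ | e
  · rw [hfind] at hspec
    intro a ha b hb
    have h1 := hspec a (two_elt_of_mem P ha)
    have h2 := hspec b (two_elt_of_mem P hb)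
    simp only [pow_zero, pow_one] at h1 h2
    rw [h1, h2]
  · rw [hfind] at hspec
    have hnot := hmin e (by omega)
    push Not at hnot
    obtain ⟨x, ⟨k, hk⟩, hxe⟩ := hnot
    have hx := hspec x ⟨k, hk⟩
    obtain ⟨τ, hτ⟩ : ∃ τ, τ = x ^ 2 ^ e := ⟨_, rfl⟩
    have hτ1 : τ ≠ 1 := hτ ▸ hxe
    have hτ2 : τ * τ = 1 := by
      rw [hτ, ← pow_add, ← two_mul, ← pow_succ']
      exact hx
    have hc : ∀ A : Sylow 2 G, τ ∈ (A : Subgroup G) → (A : Subgroup G) ≤ centralizer ({τ} : Set G) := by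
      intro A hA
      rw [hτ] at hA ⊢
      exact top_power_central hH e hspec x hx A hA
    by_cases hC : centralizer ({τ} : Set G) = ⊤
    · -- central case
      have hτc : ∀ g : G, g * τ = τ * g := by
        intro g
        have : g ∈ centralizer ({τ} : Set G) := by rw [hC]; trivial
        exact mem_centralizer_single.mp this
      have hN : (zpowers τ).Normal := by
        refine ⟨?_⟩
        rintro _ ⟨m, rfl⟩ g
        refine ⟨m, ?_⟩
        simp only
        have : Commute g (τ ^ m) := (show Commute g τ from hτc g).zpow_right m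
        rw [this.eq]
        simp
      have hlt : Nat.card (G ⧸ zpowers τ) < n := by
        have h1 := Subgroup.card_eq_card_quotient_mul_card_subgroup (zpowers τ)
        have h2 : 1 < Nat.card (zpowers τ) := by
          rw [Nat.card_zpowers]
          have h3 : orderOf τ ≠ 1 := fun h => hτ1 (orderOf_eq_one_iff.mp h)
          have h4 : 0 < orderOf τ := orderOf_pos τ
          omega
        have h5 : 0 < Nat.card (G ⧸ zpowers τ) := Nat.card_pos
        have h6 : 0 < Nat.card G := Nat.card_pos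
        rw [← hn]
        nlinarith
      have hq := ih _ hlt (G ⧸ zpowers τ) rfl (h2_quotient hH τ hτ2)
        (P.mapSurjective (QuotientGroup.mk'_surjective (zpowers τ)))
      intro a ha b hb
      refine comm_of_quotient_comm hH τ hτc P ?_ a b ha hb
      intro a' ha' b' hb'
      exact hq _ ⟨a', ha', rfl⟩ _ ⟨b', hb', rfl⟩
    · -- proper centralizer
      have hlt : Nat.card (centralizer ({τ} : Set G)) < n := by
        rw [← hn]
        exact lt_of_le_of_ne (Subgroup.card_le_card_group _)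
          (fun h => hC (Subgroup.eq_top_of_card_eq _ h))
      have hq := ih _ hlt (centralizer ({τ} : Set G)) rfl
        (h2_centralizer hH τ hc (m := 1) (by rw [pow_one, pow_two, hτ2]))
      obtain ⟨Q₁, hxQ₁, hQ₁C⟩ := hH x ⟨k, hk⟩
      have hτQ₁ : τ ∈ (Q₁ : Subgroup G) := hτ ▸ pow_mem hxQ₁ _
      have hQ₁τ := hc Q₁ hτQ₁
      have hQ₁ab := hq (Q₁.subtype hQ₁τ)
      have hQ₁ab' : ∀ a ∈ (Q₁ : Subgroup G), ∀ b ∈ (Q₁ : Subgroup G), a * b = b * a := by
        intro a ha b hb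
        have := hQ₁ab ⟨a, hQ₁τ ha⟩ (by rw [Sylow.coe_subtype]; exact ha) ⟨b, hQ₁τ hb⟩
          (by rw [Sylow.coe_subtype]; exact hb)
        exact congrArg Subtype.val this
      obtain ⟨g, hg⟩ := MulAction.exists_smul_eq G Q₁ P
      intro a ha b hb
      rw [← hg, mem_smul_sylow] at ha hb
      have h1 := hQ₁ab' _ ha _ hb
      have h2 : g * ((g⁻¹ * a * g) * (g⁻¹ * b * g)) * g⁻¹ = g * ((g⁻¹ * b * g) * (g⁻¹ * a * g)) * g⁻¹ := by
        rw [h1]
      simpa [mul_assoc] using h2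

theorem abelian_of_H2 (hH : H2 G) (P : Sylow 2 G) (a b : G) (ha : a ∈ (P : Subgroup G))
    (hb : b ∈ (P : Subgroup G)) : a * b = b * a :=
  abelian_of_H2_aux _ G rfl hH P a ha b hb

theorem exists_pow_of_two_pow {x : G} {k : ℕ} (hk : x ^ 2 ^ k = 1) : ∃ j : ℕ, orderOf x = 2 ^ j := by
  obtain ⟨j, -, hj⟩ := (Nat.dvd_prime_pow Nat.prime_two).mp (orderOf_dvd_of_pow_eq_one hk)
  exact ⟨j, hj⟩

theorem H2.of_sylow (h : ∀ x : G, (∃ k : ℕ, orderOf x = 2 ^ k) →
    ∃ Q : Sylow 2 G, (Q : Subgroup G) ≤ centralizer ({x} : Set G)) : H2 G := by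
  rintro x ⟨k, hk⟩
  obtain ⟨Q, hQ⟩ := h x (exists_pow_of_two_pow hk)
  exact ⟨Q, mem_sylow_of_le_centralizer Q hk hQ, hQ⟩

theorem H2.of_index (h : ∀ x : G, (∃ k : ℕ, orderOf x = 2 ^ k) →
    ¬ 2 ∣ (centralizer ({x} : Set G)).index) : H2 G := by
  refine H2.of_sylow fun x hx => ?_
  obtain ⟨R⟩ : Nonempty (Sylow 2 (centralizer ({x} : Set G))) := inferInstance
  have hp : IsPGroup 2 ((R : Subgroup (centralizer ({x} : Set G))).map (centralizer ({x} : Set G)).subtype) :=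
    R.isPGroup'.map _
  have hi : ¬ 2 ∣ ((R : Subgroup (centralizer ({x} : Set G))).map (centralizer ({x} : Set G)).subtype).index := by
    rw [Subgroup.index_map_subtype]
    intro hd
    rcases (Nat.prime_two.dvd_mul).mp hd with hd | hd
    · exact R.not_dvd_index hd
    · exact h x hx hd
  refine ⟨hp.toSylow hi, ?_⟩
  rintro _ ⟨t, -, rfl⟩
  exact t.2

end Cfsg.Agent.Lib.TwoCentral
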